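import Cfsg.Agent.Lib.TwistedStr.StrF4
import Cfsg.Agent.Lib.TwistedStr.TorusF4

/-!
# The two orbit groups of `²F₄` and the action of the torus on them
-/

set_option autoImplicit false

namespace CfsgLib.LargeReeAut

open Cfsg.Lie CfsgLib.ChevStr CfsgLib.Twisted
open scoped MatrixGroups

theorem f4_comm_facts : ∀ rs ∈ [(f4a, f4ab), (f4a, f4aab), (f4b, f4ab), (f4b, f4aab), (f4ab, f4aab), (f4p1, f4p4)],
    (rs.1 < chevF4.nroots ∧ rs.2 < chevF4.nroots) ∧ rs.2 ≠ rs.1 ∧ rs.2 ≠ chevF4.neg rs.1 ∧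
      ∀ c ∈ chevF4.commTerms rs.1 rs.2, c.2.1 % 2 = 0 := by decide +kernel

theorem f4_ab_comm : f4a < chevF4.nroots ∧ f4b < chevF4.nroots ∧ f4b ≠ f4a ∧
    f4b ≠ chevF4.neg f4a ∧ chevF4.commTerms f4a f4b = [(f4ab, -1, 1, 1), (f4aab, -1, 2, 1)] := by
  decide +kernel

theorem f4_cartan : ∀ j : Fin chevF4.rank,
    chevF4.cartan j.val f4p4 = [0, 0, -1, 2].getD j.val 0 ∧
    chevF4.cartan j.val f4b = [0, -2, 2, -1].getD j.val 0 := by decide +kernel

theorem f4_alpha : rootDataF4.α f4ab = rootDataF4.α f4a + rootDataF4.α f4b ∧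
    rootDataF4.α f4aab = rootDataF4.α f4a + rootDataF4.α f4a + rootDataF4.α f4b := by decide +kernel

theorem f4_rho : (rhoF4 ⟨f4b, by decide⟩ : ℕ) = f4a ∧ subF4.ex f4b = 1 ∧
    (rhoF4 ⟨f4p4, by decide⟩ : ℕ) = f4p1 ∧ subF4.ex f4p4 = 1 := by decide +kernel

variable (K : Type*) [Field K] (m : ℕ)

/-- The elements of the first orbit group. -/
noncomputable def Pt (t : K) : GL chevF4.Idx K := (coreF4 K).wordGL (f4PairWord (2 ^ m) f4p1 f4p4 t)

/-- The elements of the second orbit group. -/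
noncomputable def Bt (t u : K) : GL chevF4.Idx K :=
  (coreF4 K).wordGL (b2ClassWord (2 ^ m) f4a f4b f4ab f4aab t u)

/-- The parameters of the torus. -/
def tauVec (c v : Kˣ) : Fin chevF4.rank → Kˣ :=
  Pi.mulSingle (nodeF4 3) c * Pi.mulSingle (nodeF4 0) (c ^ 2 ^ m) *
    (Pi.mulSingle (nodeF4 1) (v ^ 2 ^ m) * Pi.mulSingle (nodeF4 2) v)

variable {K m}

theorem Pt_eq (t : K) : Pt K m t = (coreF4 K).xGL f4p1 (t ^ 2 ^ m) * (coreF4 K).xGL f4p4 t := by
  simp [Pt, f4PairWord, ChevCore.wordGL_cons, ChevCore.wordGL_nil]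

theorem Bt_eq (t u : K) : Bt K m t u = (coreF4 K).xGL f4a (t ^ 2 ^ m) * (coreF4 K).xGL f4b t *
    ((coreF4 K).xGL f4ab (t ^ (2 ^ m + 1) + u) * (coreF4 K).xGL f4aab (u ^ (2 * 2 ^ m))) := by
  simp [Bt, b2ClassWord, ChevCore.wordGL_cons, ChevCore.wordGL_nil, mul_assoc]

theorem Pt_zero : Pt K m 0 = 1 := by simp [Pt_eq, ChevCore.xGL_zero]

theorem Bt_zero : Bt K m 0 0 = 1 := by simp [Bt_eq, ChevCore.xGL_zero]

theorem Pt_mem (t : K) : Pt K m t ∈ twistedF4 K (2 ^ m) :=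
  (coreF4 K).wordGL_mem_gen (Or.inl ⟨t, Or.inl rfl⟩)

theorem Bt_mem (t u : K) : Bt K m t u ∈ twistedF4 K (2 ^ m) :=
  (coreF4 K).wordGL_mem_gen (Or.inr ⟨t, u, Or.inl rfl⟩)

variable [CharP K 2]

theorem comm_pair {rs : ℕ × ℕ}
    (h : rs ∈ [(f4a, f4ab), (f4a, f4aab), (f4b, f4ab), (f4b, f4aab), (f4ab, f4aab), (f4p1, f4p4)])
    (t u : K) : Commute ((coreF4 K).xGL rs.1 t) ((coreF4 K).xGL rs.2 u) := by
  obtain ⟨⟨h1, h2⟩, h3, h4, h5⟩ := f4_comm_facts rs h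
  refine ((coreF4 K).xGL_commute h1 h2 h3 h4 (fun c hc => ?_) t u).symm
  obtain ⟨k, hk⟩ := Int.dvd_of_emod_eq_zero (h5 c hc)
  rw [hk, Int.cast_mul, show ((2 : ℤ) : K) = 0 by exact_mod_cast CharP.cast_eq_zero K 2, zero_mul]

theorem swap_ab (t S : K) : (coreF4 K).xGL f4b t * (coreF4 K).xGL f4a S =
    (coreF4 K).xGL f4a S * (coreF4 K).xGL f4b t *
      ((coreF4 K).xGL f4ab (S * t) * (coreF4 K).xGL f4aab (S ^ 2 * t)) := by
  obtain ⟨h1, h2, h3, h4, hT⟩ := f4_ab_comm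
  rw [(coreF4 K).xGL_comm h1 h2 h3 h4]
  congr 1
  simp [ChevalleyDatum.commWord, hT, ChevCore.wordGL_cons, ChevCore.wordGL_nil, CharTwo.neg_eq]

theorem Pt_add (t s : K) : Pt K m (t + s) = Pt K m t * Pt K m s := by
  have h := comm_pair (rs := (f4p1, f4p4)) (by simp) (s ^ 2 ^ m) t
  rw [Pt_eq, Pt_eq, Pt_eq, add_pow_char_pow, ChevCore.xGL_add, ChevCore.xGL_add]
  calc _ = (coreF4 K).xGL f4p1 (t ^ 2 ^ m) * ((coreF4 K).xGL f4p1 (s ^ 2 ^ m) *
        (coreF4 K).xGL f4p4 t) * (coreF4 K).xGL f4p4 s := by group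
    _ = _ := by rw [h.eq]; group

variable [Fintype K] (hn : Fintype.card K = 2 * (2 ^ m * 2 ^ m))
include hn

theorem pow_two_sq (t : K) : t ^ (2 * (2 ^ m * 2 ^ m)) = t := by rw [← hn, FiniteField.pow_card]

theorem Bt_mul (t u s w : K) : Bt K m t u * Bt K m s w = Bt K m (t + s) (u + w + t ^ 2 ^ m * s) := by
  set T := t ^ 2 ^ m with hT
  set S := s ^ 2 ^ m with hS
  have hY : ∀ (x y z : K), Commute ((coreF4 K).xGL f4ab x * (coreF4 K).xGL f4aab y) ((coreF4 K).xGL f4a z) ∧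
      Commute ((coreF4 K).xGL f4ab x * (coreF4 K).xGL f4aab y) ((coreF4 K).xGL f4b z) := fun x y z =>
    ⟨(Commute.mul_right (comm_pair (rs := (f4a, f4ab)) (by simp) z x)
      (comm_pair (rs := (f4a, f4aab)) (by simp) z y)).symm,
    (Commute.mul_right (comm_pair (rs := (f4b, f4ab)) (by simp) z x)
      (comm_pair (rs := (f4b, f4aab)) (by simp) z y)).symm⟩
  have hYY : ∀ x y x' y', (coreF4 K).xGL f4ab x * (coreF4 K).xGL f4aab y * ((coreF4 K).xGL f4ab x' * (coreF4 K).xGL f4aab y') =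
      (coreF4 K).xGL f4ab (x + x') * (coreF4 K).xGL f4aab (y + y') := fun x y x' y' => by
    have h := comm_pair (rs := (f4ab, f4aab)) (by simp) x' y
    rw [(coreF4 K).xGL_add, (coreF4 K).xGL_add]
    calc _ = (coreF4 K).xGL f4ab x * ((coreF4 K).xGL f4aab y * (coreF4 K).xGL f4ab x') * (coreF4 K).xGL f4aab y' := by group
      _ = _ := by rw [h.symm.eq]; group
  rw [Bt_eq, Bt_eq, Bt_eq, ← hT, ← hS, add_pow_char_pow, ← hT, ← hS]
  set Y := (coreF4 K).xGL f4ab (t ^ (2 ^ m + 1) + u) * (coreF4 K).xGL f4aab (u ^ (2 * 2 ^ m))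
  set Y' := (coreF4 K).xGL f4ab (s ^ (2 ^ m + 1) + w) * (coreF4 K).xGL f4aab (w ^ (2 * 2 ^ m))
  set W := (coreF4 K).xGL f4ab (S * t) * (coreF4 K).xGL f4aab (S ^ 2 * t)
  have h1 : Commute Y ((coreF4 K).xGL f4a S * (coreF4 K).xGL f4b s) := Commute.mul_right (hY _ _ _).1 (hY _ _ _).2
  calc (coreF4 K).xGL f4a T * (coreF4 K).xGL f4b t * Y * ((coreF4 K).xGL f4a S * (coreF4 K).xGL f4b s * Y')
      = (coreF4 K).xGL f4a T * (coreF4 K).xGL f4b t * (Y * ((coreF4 K).xGL f4a S * (coreF4 K).xGL f4b s)) * Y' := by group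
    _ = (coreF4 K).xGL f4a T * ((coreF4 K).xGL f4b t * (coreF4 K).xGL f4a S) * (coreF4 K).xGL f4b s * (Y * Y') := by rw [h1.eq]; group
    _ = (coreF4 K).xGL f4a T * (coreF4 K).xGL f4a S * (coreF4 K).xGL f4b t * (W * (coreF4 K).xGL f4b s) * (Y * Y') := by
        rw [swap_ab]; simp only [W, mul_assoc]
    _ = (coreF4 K).xGL f4a T * (coreF4 K).xGL f4a S * ((coreF4 K).xGL f4b t * (coreF4 K).xGL f4b s) * (W * (Y * Y')) := by
        have h2 : Commute W ((coreF4 K).xGL f4b s) := (hY _ _ _).2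
        rw [h2.eq]; simp only [mul_assoc]
    _ = _ := by
      rw [← (coreF4 K).xGL_add, ← (coreF4 K).xGL_add, hYY, hYY]
      congr 3
      · have h2 : (2 : K) = 0 := CharTwo.two_eq_zero
        rw [pow_succ, pow_succ, pow_succ, add_pow_char_pow, ← hT, ← hS]
        linear_combination (-T * s) * h2
      · have e : ∀ x y : K, (x + y) ^ (2 * 2 ^ m) = x ^ (2 * 2 ^ m) + y ^ (2 * 2 ^ m) := fun x y => by
          rw [← pow_succ']; exact add_pow_char_pow ..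
        rw [e, e, mul_pow, hT, hS, ← pow_mul, ← pow_mul,
          show 2 ^ m * (2 * 2 ^ m) = 2 * (2 ^ m * 2 ^ m) by ring, pow_two_sq hn,
          show 2 ^ m * 2 = 2 * 2 ^ m by ring]
        ring

theorem Bt_sq (t : K) : Bt K m t 0 * Bt K m t 0 = Bt K m 0 (t ^ (2 ^ m + 1)) := by
  rw [Bt_mul hn, CharTwo.add_self_eq_zero, zero_add, zero_add, pow_succ]

theorem Bt_split (t u : K) : Bt K m t u = Bt K m t 0 * Bt K m 0 u := by
  rw [Bt_mul hn, add_zero, zero_add, mul_zero, add_zero]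

theorem Pt_inj {t s : K} (h : Pt K m t = Pt K m s) : t = s := by
  have hcl : (coreF4 K).R.IsClosed (listSet [f4p1, f4p4]) := inF4 K 0 ▸ inRoots_closed _ _
  have hlev := (Frob.level_of_check (C := coreF4 K) levelF4.1 hcl).1
  have h1 := congrArg ((coreF4 K).coord (listSet [f4p1, f4p4]) f4p4) h
  rw [Pt, Pt, (coreF4 K).coord_wordGL hlev (by simp [listSet]) (by simp [listSet]) _
    (by simp [listSet, f4PairWord]), (coreF4 K).coord_wordGL hlev (by simp [listSet])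
    (by simp [listSet]) _ (by simp [listSet, f4PairWord])] at h1
  simpa [f4PairWord, f4p1, f4p4] using h1

theorem Bt_inj {t u s w : K} (h : Bt K m t u = Bt K m s w) : t = s ∧ u = w := by
  have hcl : (coreF4 K).R.IsClosed (listSet [f4a, f4b, f4ab, f4aab]) :=
    inF4 K 1 ▸ inRoots_closed _ _
  obtain ⟨hlev, hcl'⟩ := Frob.level_of_check (C := coreF4 K) levelF4.2.1 hcl
  have hlev' := (Frob.level_of_check (C := coreF4 K) levelF4.2.2 hcl').1
  have h1 := congrArg ((coreF4 K).coord (listSet [f4a, f4b, f4ab, f4aab]) f4b) h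
  rw [Bt, Bt, (coreF4 K).coord_wordGL hlev (by simp [listSet]) (by simp [listSet, f4b, f4ab, f4aab]) _
    (by simp [listSet, b2ClassWord]), (coreF4 K).coord_wordGL hlev (by simp [listSet])
    (by simp [listSet, f4b, f4ab, f4aab]) _ (by simp [listSet, b2ClassWord])] at h1
  obtain rfl : t = s := by simpa [b2ClassWord, f4a, f4b, f4ab, f4aab] using h1
  refine ⟨rfl, ?_⟩
  rw [Bt_split hn t u, Bt_split hn t w] at h
  have he : ∀ x : K, Bt K m 0 x = (coreF4 K).wordGL [(f4ab, x), (f4aab, x ^ (2 * 2 ^ m))] := fun x => by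
    simp [Bt, b2ClassWord, ChevCore.wordGL_cons, (coreF4 K).xGL_zero]
  have h2 := congrArg ((coreF4 K).coord (listSet [f4ab, f4aab]) f4ab) (mul_left_cancel h)
  rw [he, he, (coreF4 K).coord_wordGL hlev' (by simp [listSet]) (by simp [listSet]) _
    (by simp [listSet]), (coreF4 K).coord_wordGL hlev' (by simp [listSet]) (by simp [listSet]) _
    (by simp [listSet])] at h2
  simpa [f4ab, f4aab] using h2

theorem Pt_fix (t : K) : Pt K m t ∈ (frobF4 K m).fixU (inRoots (coreF4 K).R (orbF4.J 0)) := by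
  refine Subgroup.mem_inf.2 ⟨?_, le_fixedF4 K hn (Pt_mem t)⟩
  show Pt K m t ∈ (coreF4 K).Ucl (inRoots (coreF4 K).R (nodesF4 0))
  rw [inF4]
  exact (coreF4 K).wordGL_mem_Ucl (by simp [listSet, rootsF4, f4PairWord])

theorem Bt_fix (t u : K) : Bt K m t u ∈ (frobF4 K m).fixU (inRoots (coreF4 K).R (orbF4.J 1)) := by
  refine Subgroup.mem_inf.2 ⟨?_, le_fixedF4 K hn (Bt_mem t u)⟩
  show Bt K m t u ∈ (coreF4 K).Ucl (inRoots (coreF4 K).R (nodesF4 1))
  rw [inF4]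
  exact (coreF4 K).wordGL_mem_Ucl (by simp [listSet, rootsF4, b2ClassWord])

theorem exists_Pt {x : GL chevF4.Idx K}
    (hx : x ∈ (frobF4 K m).fixU (inRoots (coreF4 K).R (orbF4.J 0))) : ∃ t, x = Pt K m t := by
  have hc : Nat.card ↥((frobF4 K m).fixU (inRoots (coreF4 K).R (orbF4.J 0))) = Nat.card K := by
    show Nat.card ↥((frobF4 K m).fixU (inRoots (coreF4 K).R (nodesF4 0))) = _
    rw [inF4, (pairF4 K hn).2, Nat.card_eq_fintype_card]
  obtain ⟨t, ht⟩ := ((Nat.bijective_iff_injective_and_card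
    (fun t : K => (⟨_, Pt_fix hn t⟩ : ↥((frobF4 K m).fixU (inRoots (coreF4 K).R (orbF4.J 0)))))).2
    ⟨fun a b e => Pt_inj hn (congrArg Subtype.val e), hc.symm⟩).2 ⟨x, hx⟩
  exact ⟨t, (congrArg Subtype.val ht).symm⟩

theorem exists_Bt {x : GL chevF4.Idx K}
    (hx : x ∈ (frobF4 K m).fixU (inRoots (coreF4 K).R (orbF4.J 1))) : ∃ t u, x = Bt K m t u := by
  have hc : Nat.card ↥((frobF4 K m).fixU (inRoots (coreF4 K).R (orbF4.J 1))) = Nat.card (K × K) := by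
    show Nat.card ↥((frobF4 K m).fixU (inRoots (coreF4 K).R (nodesF4 1))) = _
    rw [inF4, (classF4 K hn).2, Nat.card_prod, Nat.card_eq_fintype_card]
  obtain ⟨t, ht⟩ := ((Nat.bijective_iff_injective_and_card
    (fun p : K × K => (⟨_, Bt_fix hn p.1 p.2⟩ :
      ↥((frobF4 K m).fixU (inRoots (coreF4 K).R (orbF4.J 1)))))).2
    ⟨fun a b e => Prod.ext (Bt_inj hn (congrArg Subtype.val e)).1 (Bt_inj hn (congrArg Subtype.val e)).2,
      hc.symm⟩).2 ⟨x, hx⟩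
  exact ⟨t.1, t.2, (congrArg Subtype.val ht).symm⟩

theorem tau_mem (c v : Kˣ) : (coreF4 K).R.torus (tauVec K m c v) ∈ twistedF4 K (2 ^ m) := by
  rw [tauVec, map_mul]
  exact mul_mem (pairTorusF4 K hn c) (classTorusF4 K hn v)

theorem exists_tau {h : GL chevF4.Idx K}
    (hh : h ∈ chevF4.diagonalSubgroup K ⊓ twistedF4 K (2 ^ m)) :
    ∃ c v, h = (coreF4 K).R.torus (tauVec K m c v) := by
  rw [diag_infF4 K hn] at hh
  obtain ⟨c, hc, rfl⟩ := hh
  obtain ⟨h0, h1⟩ := fixF4_eq K (mem_fixTorus.1 hc)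
  refine ⟨c (nodeF4 3), c (nodeF4 2), congrArg _ ?_⟩
  funext j
  rcases nodeF4_cases j with rfl | rfl | rfl | rfl <;>
    simp [tauVec, h0, h1, Pi.mulSingle_apply] <;> simp [nodeF4, Fin.ext_iff]

omit hn in
theorem char_tau (c v : Kˣ) :
    (coreF4 K).R.torusChar (tauVec K m c v) ((coreF4 K).R.α f4p4) = c ^ (2 : ℤ) * v ^ (-1 : ℤ) ∧
    (coreF4 K).R.torusChar (tauVec K m c v) ((coreF4 K).R.α f4b) =
      c ^ (-1 : ℤ) * ((v ^ 2 ^ m) ^ (-2 : ℤ) * v ^ (2 : ℤ)) := by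
  have hp : f4p4 < chevF4.nroots := by decide
  have hb : f4b < chevF4.nroots := by decide
  refine ⟨?_, ?_⟩ <;>
    simp only [tauVec, RootData.torusChar_mul, RootData.torusChar_single _ _ _ hp,
      RootData.torusChar_single _ _ _ hb, (f4_cartan _).1, (f4_cartan _).2] <;>
    simp [nodeF4]

/-- The characters of a torus element on the roots of the two orbit groups. -/
theorem torus_chars {c : Fin chevF4.rank → Kˣ} (hc : (coreF4 K).R.torus c ∈ twistedF4 K (2 ^ m)) :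
    let χ := fun r : ℕ => (coreF4 K).R.torusChar c ((coreF4 K).R.α r)
    χ f4p1 = χ f4p4 ^ 2 ^ m ∧ χ f4a = χ f4b ^ 2 ^ m ∧ χ f4ab = χ f4b ^ (2 ^ m + 1) ∧
      χ f4aab = χ f4b ^ (2 * 2 ^ m + 1) := by
  intro χ
  obtain ⟨r1, x1, r2, x2⟩ := f4_rho
  have g := gensF4 K hn
  have ha : χ f4a = χ f4b ^ 2 ^ m := by
    have h := g.char_fixed hc ⟨f4b, by decide⟩
    rw [show ((frobF4 K m).ρ ⟨f4b, by decide⟩ : ℕ) = f4a from r1,
      show (frobF4 K m).e ⟨f4b, by decide⟩ = 2 ^ m * subF4.ex f4b from rfl, x1, mul_one] at h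
    exact h
  have hp : χ f4p1 = χ f4p4 ^ 2 ^ m := by
    have h := g.char_fixed hc ⟨f4p4, by decide⟩
    rw [show ((frobF4 K m).ρ ⟨f4p4, by decide⟩ : ℕ) = f4p1 from r2,
      show (frobF4 K m).e ⟨f4p4, by decide⟩ = 2 ^ m * subF4.ex f4p4 from rfl, x2, mul_one] at h
    exact h
  have hadd : ∀ v w : Fin chevF4.rank → ℤ, (coreF4 K).R.torusChar c (v + w) =
      (coreF4 K).R.torusChar c v * (coreF4 K).R.torusChar c w := fun v w => by
    simp [RootData.torusChar, zpow_add, Finset.prod_mul_distrib]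
  obtain ⟨a1, a2⟩ := f4_alpha
  refine ⟨hp, ha, ?_, ?_⟩
  · show (coreF4 K).R.torusChar c (rootDataF4.α f4ab) = _
    rw [a1, hadd]
    show χ f4a * χ f4b = _
    rw [ha, pow_succ]
  · show (coreF4 K).R.torusChar c (rootDataF4.α f4aab) = _
    rw [a2, hadd, hadd]
    show χ f4a * χ f4a * χ f4b = _
    rw [ha, ← pow_add, ← pow_succ, two_mul]

omit hn [Fintype K] [CharP K 2] in
theorem conj_xGL (c : Fin chevF4.rank → Kˣ) {r : ℕ} (hr : r < chevF4.nroots) (t : K) :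
    MulAut.conj ((coreF4 K).R.torus c) ((coreF4 K).xGL r t) =
      (coreF4 K).xGL r (((coreF4 K).R.torusChar c ((coreF4 K).R.α r) : K) * t) := by
  rw [MulAut.conj_apply]
  exact (coreF4 K).acts_torus c ⟨r, hr⟩ t

theorem torus_conj_Pt {c : Fin chevF4.rank → Kˣ}
    (hc : (coreF4 K).R.torus c ∈ twistedF4 K (2 ^ m)) (t : K) :
    (coreF4 K).R.torus c * Pt K m t * ((coreF4 K).R.torus c)⁻¹ =
      Pt K m (((coreF4 K).R.torusChar c ((coreF4 K).R.α f4p4) : K) * t) := by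
  obtain ⟨h1, -⟩ := torus_chars hn hc
  simp only at h1
  rw [← MulAut.conj_apply, Pt_eq, Pt_eq, map_mul, conj_xGL c (by decide), conj_xGL c (by decide), h1,
    Units.val_pow_eq_pow_val, mul_pow]

theorem torus_conj_Bt {c : Fin chevF4.rank → Kˣ}
    (hc : (coreF4 K).R.torus c ∈ twistedF4 K (2 ^ m)) (t u : K) :
    (coreF4 K).R.torus c * Bt K m t u * ((coreF4 K).R.torus c)⁻¹ =
      Bt K m (((coreF4 K).R.torusChar c ((coreF4 K).R.α f4b) : K) * t)
        (((coreF4 K).R.torusChar c ((coreF4 K).R.α f4b) : K) ^ (2 ^ m + 1) * u) := by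
  obtain ⟨-, ha, hab, haab⟩ := torus_chars hn hc
  simp only at ha hab haab
  rw [← MulAut.conj_apply, Bt_eq, Bt_eq, map_mul, map_mul, map_mul, conj_xGL c (by decide),
    conj_xGL c (by decide), conj_xGL c (by decide), conj_xGL c (by decide), ha, hab, haab]
  simp only [Units.val_pow_eq_pow_val, mul_pow, mul_add]
  congr 3
  rw [← pow_mul, show (2 ^ m + 1) * (2 * 2 ^ m) = 2 * (2 ^ m * 2 ^ m) + 2 * 2 ^ m by ring]
  simp only [pow_add, pow_two_sq hn, pow_one, mul_comm]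

/-- The characters on the two orbit groups determine the torus element. -/
theorem chars_bijective : Function.Bijective (fun p : Kˣ × Kˣ =>
    ((coreF4 K).R.torusChar (tauVec K m p.1 p.2) ((coreF4 K).R.α f4p4),
      (coreF4 K).R.torusChar (tauVec K m p.1 p.2) ((coreF4 K).R.α f4b))) := by
  let f : Kˣ × Kˣ →* Kˣ × Kˣ :=
    MonoidHom.mk' (fun p => (p.1 ^ (2 : ℤ) * p.2 ^ (-1 : ℤ),
      p.1 ^ (-1 : ℤ) * ((p.2 ^ 2 ^ m) ^ (-2 : ℤ) * p.2 ^ (2 : ℤ)))) fun p q => by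
      simp only [Prod.fst_mul, Prod.snd_mul, mul_zpow, mul_pow, Prod.mk_mul_mk, Prod.mk.injEq]
      constructor <;> ac_rfl
  have hf : (fun p : Kˣ × Kˣ =>
    ((coreF4 K).R.torusChar (tauVec K m p.1 p.2) ((coreF4 K).R.α f4p4),
      (coreF4 K).R.torusChar (tauVec K m p.1 p.2) ((coreF4 K).R.α f4b))) = f := funext fun p => by
    rw [(char_tau p.1 p.2).1, (char_tau p.1 p.2).2]; rfl
  rw [hf]
  refine Finite.injective_iff_bijective.1 ((injective_iff_map_eq_one f).2 fun ⟨c, v⟩ h => ?_)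
  simp only [f, MonoidHom.mk'_apply, Prod.mk_eq_one] at h
  obtain ⟨h1, h2⟩ := h
  obtain rfl : v = c ^ 2 := by
    rw [zpow_neg_one, mul_inv_eq_one] at h1
    rw [← h1]; norm_cast
  have h4 : c ^ (4 * 2 ^ m) = c ^ 3 := by
    have e : c⁻¹ * ((c ^ (4 * 2 ^ m))⁻¹ * c ^ 4) = 1 := by
      rw [← h2]
      simp only [zpow_neg, zpow_one, zpow_ofNat, pow_one, ← pow_mul, show 2 * 2 ^ m * 2 = 4 * 2 ^ m by ring]
      try norm_num
    rw [inv_mul_eq_one, eq_inv_mul_iff_mul_eq, ← mul_comm c] at e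
    have e' : c * c ^ (4 * 2 ^ m) = c * c ^ 3 := by rw [← pow_succ' c 3]; exact e
    exact mul_left_cancel e'
  have h5 : c ^ 2 = c ^ (3 * 2 ^ m) := by
    rw [pow_mul, ← h4, ← pow_mul, show 4 * 2 ^ m * 2 ^ m = 2 * (2 ^ m * 2 ^ m) * 2 by ring, pow_mul,
      unit_powF4 K hn]
  have h6 : c ^ 8 * c = c ^ 8 * 1 := by
    rw [mul_one, ← pow_succ]
    calc c ^ 9 = (c ^ (4 * 2 ^ m)) ^ 3 := by rw [h4, ← pow_mul]
      _ = (c ^ (3 * 2 ^ m)) ^ 4 := by rw [← pow_mul, ← pow_mul]; ring_nf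
      _ = c ^ 8 := by rw [← h5, ← pow_mul]
  obtain rfl := mul_left_cancel h6
  simp

end CfsgLib.LargeReeAut
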