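import Cfsg.Agent.Lib.TwistAut.Normalize

/-!
# Rigidity in a twisted group

An automorphism preserving `U1`, `V1` and fixing one orbit group pointwise fixes the opposite orbit
group pointwise.  Also: normalisation of an automorphism from the oddness of the index of `B1`.
-/

set_option autoImplicit false

namespace CfsgLib.LargeReeAut

open Cfsg.Lie CfsgLib.ChevStr CfsgLib.Twisted CfsgLib.TwistAut
open scoped MatrixGroups

variable {D : ChevalleyDatum} {F : Type*} [Field F] {C : ChevCore D F} {φ : Frob C} {I : Type}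
  {O : OrbitData C.R φ.ρ I} {G1 : Subgroup (GL D.Idx F)} {d : ℕ} [Fintype F] (g : Gens φ O G1 d)

include g

omit [Fintype F] in
theorem tor_conj {h : GL D.Idx F} (hh : h ∈ tor G1) (S : Set ℕ) {x : GL D.Idx F}
    (hx : x ∈ φ.fixU S) : h * x * h⁻¹ ∈ φ.fixU S := by
  obtain ⟨h1, h2⟩ := Subgroup.mem_inf.1 hx
  have hf := g.le_fixed hh.2
  refine Subgroup.mem_inf.2 ⟨?_, mul_mem (mul_mem hf h2) (inv_mem hf)⟩
  obtain ⟨c, hc⟩ : h ∈ C.R.torus.range := by rw [← C.diagonalSubgroup_eq]; exact hh.1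
  exact (Subgroup.mem_normalizer_iff.1 (C.torus_normalizes S ⟨c, hc⟩) x).1 h1

theorem exists_pre_pos (i : I) {w : GL D.Idx F} (hw : w ∈ φ.fixU (negRootsIn C.R (O.J i))) :
    ∃ a ∈ φ.fixU (inRoots C.R (O.J i)), g.s i * a * (g.s i)⁻¹ = w := by
  obtain ⟨a, ha⟩ := ((Nat.bijective_iff_injective_and_card
    (fun a : ↥(φ.fixU (inRoots C.R (O.J i))) =>
      (⟨_, conj_in_mem g i a.2⟩ : ↥(φ.fixU (negRootsIn C.R (O.J i)))))).2
    ⟨fun a b e => Subtype.ext (mul_left_cancel (mul_right_cancel (congrArg Subtype.val e))),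
      (card_negIn g i).symm⟩).2 ⟨w, hw⟩
  exact ⟨a, a.2, congrArg Subtype.val ha⟩

theorem exists_pre_neg (i : I) {a : GL D.Idx F} (ha : a ∈ φ.fixU (inRoots C.R (O.J i))) :
    ∃ w ∈ φ.fixU (negRootsIn C.R (O.J i)), g.s i * w * (g.s i)⁻¹ = a := by
  obtain ⟨w, hw⟩ := ((Nat.bijective_iff_injective_and_card
    (fun a : ↥(φ.fixU (negRootsIn C.R (O.J i))) =>
      (⟨_, conj_negIn_mem g i a.2⟩ : ↥(φ.fixU (inRoots C.R (O.J i)))))).2
    ⟨fun a b e => Subtype.ext (mul_left_cancel (mul_right_cancel (congrArg Subtype.val e))),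
      card_negIn g i⟩).2 ⟨a, ha⟩
  exact ⟨w, w.2, congrArg Subtype.val hw⟩

theorem bor_inter_neg (i : I) {x : GL D.Idx F} (hB : x ∈ bor G1)
    (hx : x ∈ φ.fixU (negRootsIn C.R (O.J i))) : x = 1 :=
  (Subgroup.eq_bot_iff_forall _).1 C.borel_inf_negUnipotent x
    (Subgroup.mem_inf.2 ⟨hB.1, (negIn_le g i hx).1⟩)

theorem exists_param_neg (i : I) {v : GL D.Idx F} (hv : v ∈ φ.fixU (negRootsIn C.R (O.J i)))
    (hne : v ≠ 1) : ∃ t ∈ φ.fixU (inRoots C.R (O.J i)), v * (g.s i * t)⁻¹ ∈ bor G1 := by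
  rcases (mem_para g).1 (negIn_le_para g i hv) with hb | hc
  · exact absurd (bor_inter_neg g i hb hv) hne
  · exact exists_param g hc

theorem param_unique (i : I) {v t t' : GL D.Idx F} (ht : t ∈ φ.fixU (inRoots C.R (O.J i)))
    (ht' : t' ∈ φ.fixU (inRoots C.R (O.J i))) (h : v * (g.s i * t)⁻¹ ∈ bor G1)
    (h' : v * (g.s i * t')⁻¹ ∈ bor G1) : t = t' := by
  have h2 := mul_mem (inv_mem h) h'
  rw [show (v * (g.s i * t)⁻¹)⁻¹ * (v * (g.s i * t')⁻¹) = g.s i * (t * t'⁻¹) * (g.s i)⁻¹ by group] at h2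
  exact mul_inv_eq_one.1 (conj_eq_one_iff.1
    (bor_inter_neg g i h2 (conj_in_mem g i (mul_mem ht (inv_mem ht')))))

/-- An element of an orbit group normalising the opposite orbit group is trivial. -/
theorem eq_one_of_normalizes_neg (i : I) {y : GL D.Idx F} (hy : y ∈ φ.fixU (inRoots C.R (O.J i)))
    (h : ∀ v ∈ φ.fixU (negRootsIn C.R (O.J i)), y * v * y⁻¹ ∈ φ.fixU (negRootsIn C.R (O.J i))) :
    y = 1 := by
  classical
  set X := φ.fixU (inRoots C.R (O.J i))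
  set Y := φ.fixU (negRootsIn C.R (O.J i))
  have hp : ∀ v : {v : ↥Y // v ≠ 1}, ∃ t : ↥X, (v.1 : GL D.Idx F) * (g.s i * t)⁻¹ ∈ bor G1 := fun v => by
    obtain ⟨t, ht, e⟩ := exists_param_neg g i v.1.2 fun e => v.2 (Subtype.ext e)
    exact ⟨⟨t, ht⟩, e⟩
  choose f hf using hp
  have hinj : Function.Injective f := fun a b e => by
    have h1 := hf b
    rw [← e] at h1
    have h2 := mul_mem (hf a) (inv_mem h1)
    rw [show (a.1 : GL D.Idx F) * (g.s i * f a)⁻¹ * ((b.1 : GL D.Idx F) * (g.s i * f a)⁻¹)⁻¹ =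
      a.1 * (b.1 : GL D.Idx F)⁻¹ by group] at h2
    exact Subtype.ext (Subtype.ext (mul_inv_eq_one.1
      (bor_inter_neg g i h2 (mul_mem a.1.2 (inv_mem b.1.2)))))
  have hcard : Nat.card (Option {v : ↥Y // v ≠ 1}) = Nat.card ↥X := by
    rw [Nat.card_congr (Equiv.optionSubtypeNe (1 : ↥Y))]
    exact card_negIn g i
  obtain ⟨t0, ht0⟩ : ∃ t0, ∀ v, f v ≠ t0 := by
    by_contra hcon
    push Not at hcon
    have := Nat.card_eq_of_bijective f ⟨hinj, hcon⟩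
    rw [Finite.card_option] at hcard
    omega
  have hsurj : ∀ x, x ≠ t0 → ∃ v, f v = x := by
    intro x hx
    have hb := (Nat.bijective_iff_injective_and_card
      (fun o : Option {v : ↥Y // v ≠ 1} => o.elim t0 f)).2 ⟨?_, hcard⟩
    · obtain ⟨o, ho⟩ := hb.2 x
      rcases o with _ | v
      · exact absurd ho.symm hx
      · exact ⟨v, ho⟩
    · rintro (_ | a) (_ | b) e
      · rfl
      · exact absurd e.symm (ht0 b)
      · exact absurd e (ht0 a)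
      · exact congrArg _ (hinj e)
  by_contra hy1
  set y' : ↥X := ⟨y, hy⟩ with hy'
  obtain ⟨v, hv⟩ := hsurj (t0 * y') fun e => hy1 (congrArg Subtype.val (mul_eq_left.1 e))
  set w : {v : ↥Y // v ≠ 1} := ⟨⟨_, h _ v.1.2⟩, fun e => v.2 (Subtype.ext
    (conj_eq_one_iff.1 (congrArg Subtype.val e)))⟩ with hw
  refine ht0 w (Subtype.ext (param_unique g i (f w).2 t0.2 (hf w) ?_))
  have h1 := hf v
  rw [hv, hy'] at h1
  have h2 : (w.1 : GL D.Idx F) * (g.s i * t0)⁻¹ = y * ((v.1 : GL D.Idx F) * (g.s i * (t0 * y))⁻¹) := by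
    show y * (v.1 : GL D.Idx F) * y⁻¹ * _ = _
    group
  rw [h2]
  exact mul_mem (pU_le_bor G1 (fixU_in_le g i hy)) h1

omit [Fintype F] g in
theorem tor_deg0 (J : Finset (Fin D.rank)) {h : GL D.Idx F} (hh : h ∈ D.diagonalSubgroup F) :
    h ∈ deg0Sub C J := by
  have key : ∀ {h : GL D.Idx F}, h ∈ C.R.torus.range → Deg0 C J (h : Matrix D.Idx D.Idx F) := by
    rintro _ ⟨c, rfl⟩ a b hab m _
    rw [show a = b from not_not.1 fun hne => hab (by simp [RootData.torus, diagHom, hne])]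
  have hh' : h ∈ C.R.torus.range := C.diagonalSubgroup_eq ▸ hh
  exact ⟨key hh', key (inv_mem hh')⟩

/-- A non-trivial element of an opposite orbit group in terms of the orbit group, the torus and the
representative of the orbit. -/
theorem exists_levi (i : I) {v : GL D.Idx F} (hv : v ∈ φ.fixU (negRootsIn C.R (O.J i)))
    (hne : v ≠ 1) : ∃ y ∈ φ.fixU (inRoots C.R (O.J i)), ∃ h ∈ tor G1,
      ∃ t ∈ φ.fixU (inRoots C.R (O.J i)), v = y * h * g.s i * t := by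
  obtain ⟨t, ht, hb⟩ := exists_param_neg g i hv hne
  obtain ⟨u, hu, h, hh, e⟩ := g.twist.mem_B_inf.1 hb
  change u ∈ pU G1 at hu
  change h ∈ tor G1 at hh
  obtain ⟨a, ha, c, hc, rfl⟩ := exists_split C (O.J i) hu.1
  have hv' : v = a * c * h * g.s i * t := by rw [e]; group
  have hin : ∀ x ∈ C.Ucl (inRoots C.R (O.J i)), x ∈ deg0Sub C (O.J i) := fun x hx =>
    C.Ucl_le (fun r hr s => xGL_deg0 C _ hr.2 s) hx
  have hc0 : c ∈ deg0Sub C (O.J i) := by
    have hvd : v ∈ deg0Sub C (O.J i) :=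
      C.Ucl_le (fun r hr s => xGL_deg0 C _ hr.2 s) (Subgroup.mem_inf.1 hv).1
    have e' : c = a⁻¹ * v * t⁻¹ * (g.s i)⁻¹ * h⁻¹ := by rw [hv']; group
    rw [e']
    exact mul_mem (mul_mem (mul_mem (mul_mem (inv_mem (hin a ha)) hvd)
      (inv_mem (hin t (Subgroup.mem_inf.1 ht).1)))
      (inv_mem (monomial_deg0 C _ (g.s_mem_N i) (g.s_moves i) (g.wJ_mem i))))
      (inv_mem (tor_deg0 _ hh.1))
  obtain rfl := out_deg0_eq_one C _ hc hc0
  rw [mul_one] at hv' hu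
  exact ⟨a, Subgroup.mem_inf.2 ⟨ha, g.le_fixed hu.2⟩, h, hh, t, ht, hv'⟩

/-- An automorphism fixing an orbit group pointwise fixes the opposite one pointwise. -/
theorem fix_neg {ψ : ↥G1 ≃* ↥G1} (hψ : Normal ψ) (i : I)
    (hX : ∀ x ∈ φ.fixU (inRoots C.R (O.J i)), app ψ x = x)
    (hY : ∀ x ∈ φ.fixU (negRootsIn C.R (O.J i)), app ψ x ∈ φ.fixU (negRootsIn C.R (O.J i))) :
    ∀ v ∈ φ.fixU (negRootsIn C.R (O.J i)), app ψ v = v := by
  intro v hv
  set X := φ.fixU (inRoots C.R (O.J i))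
  set Y := φ.fixU (negRootsIn C.R (O.J i))
  set s := g.s i with hs
  have hsG : s ∈ G1 := g.s_mem i
  rcases eq_or_ne v 1 with rfl | hne
  · exact app_one ψ
  have hvG : v ∈ G1 := (negIn_le g i hv).2
  have hXG : ∀ x ∈ X, x ∈ G1 := fun x hx => g.pos_le i hx
  obtain ⟨y, hy, h, hh, t, ht, hve⟩ := exists_levi g i hv hne
  have hne' : app ψ v ≠ 1 := fun e => hne (app_inj ψ hvG G1.one_mem (by rw [e, app_one]))
  obtain ⟨y', hy', h', hh', t', ht', hve'⟩ := exists_levi g i (hY v hv) hne'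
  set k := app ψ h with hk
  have hkT : k ∈ tor G1 := Normal.mem_tor g hψ hh
  have hψv : app ψ v = y * k * app ψ s * t := by
    rw [hve, app_mul ψ (mul_mem (mul_mem (hXG y hy) hh.2) hsG) (hXG t ht),
      app_mul ψ (mul_mem (hXG y hy) hh.2) hsG, app_mul ψ (hXG y hy) hh.2, hX y hy, hX t ht]
  set y1 := k⁻¹ * (y⁻¹ * y') * k with hy1def
  set h1 := k⁻¹ * h' with hh1def
  set t1 := t' * t⁻¹ with ht1def
  have hy1 : y1 ∈ X := by
    simpa [hy1def, mul_assoc] using tor_conj g (inv_mem hkT) _ (mul_mem (inv_mem hy) hy')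
  have hh1 : h1 ∈ tor G1 := mul_mem (inv_mem hkT) hh'
  have ht1 : t1 ∈ X := mul_mem ht' (inv_mem ht)
  set x := app ψ s with hx
  have hxe : x = y1 * h1 * s * t1 := by
    have e := hψv.symm.trans hve'
    calc x = k⁻¹ * y⁻¹ * (y * k * x * t) * t⁻¹ := by group
      _ = _ := by rw [e, hy1def, hh1def, ht1def, hs]; group
  have hxX : ∀ a ∈ X, x * a * x⁻¹ ∈ Y := fun a ha => by
    have h2 := hY _ (conj_in_mem g i ha)
    rwa [app_conj ψ hsG (hXG a ha), hX a ha] at h2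
  have hxY : ∀ w ∈ Y, x * w * x⁻¹ ∈ X := fun w hw => by
    obtain ⟨w', hw', rfl⟩ := exists_preimage ψ (fun z hz => (negIn_le g i hz).2) hY hw
    rw [← app_conj ψ hsG (negIn_le g i hw').2, hX _ (conj_negIn_mem g i hw')]
    exact conj_negIn_mem g i hw'
  have e1 : y1 = 1 := eq_one_of_normalizes_neg g i hy1 fun w hw => by
    obtain ⟨a, ha, hae⟩ := exists_pre_pos g i
      (show h1⁻¹ * w * h1 ∈ Y by simpa using tor_conj g (inv_mem hh1) _ hw)
    have h2 := hxX (t1⁻¹ * a * t1) (mul_mem (mul_mem (inv_mem ht1) ha) ht1)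
    rw [hxe, show y1 * h1 * s * t1 * (t1⁻¹ * a * t1) * (y1 * h1 * s * t1)⁻¹ =
      y1 * (h1 * (s * a * s⁻¹) * h1⁻¹) * y1⁻¹ by group, hs, hae] at h2
    simpa [mul_assoc] using h2
  rw [e1, one_mul] at hxe
  have e2 : t1 = 1 := eq_one_of_normalizes_neg g i ht1 fun w hw => by
    have h2 := hxY w hw
    rw [hxe, show h1 * s * t1 * w * (h1 * s * t1)⁻¹ =
      h1 * (s * (t1 * w * t1⁻¹) * s⁻¹) * h1⁻¹ by group] at h2
    have h3 := tor_conj g (inv_mem hh1) _ h2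
    rw [show h1⁻¹ * (h1 * (s * (t1 * w * t1⁻¹) * s⁻¹) * h1⁻¹) * h1⁻¹⁻¹ =
      s * (t1 * w * t1⁻¹) * s⁻¹ by group] at h3
    obtain ⟨w', hw', e⟩ := exists_pre_neg g i h3
    rwa [← mul_left_cancel (mul_right_cancel e)]
  rw [e2, mul_one] at hxe
  have h3 : v⁻¹ * app ψ v = t⁻¹ * (s⁻¹ * (h⁻¹ * (k * h1)) * s) * t := by
    rw [hψv, hxe, hve, hs]; group
  have hz : s⁻¹ * (h⁻¹ * (k * h1)) * s ∈ tor G1 := by
    have hm : h⁻¹ * (k * h1) ∈ tor G1 := mul_mem (inv_mem hh) (mul_mem hkT hh1)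
    refine ⟨?_, mul_mem (mul_mem (G1.inv_mem hsG) hm.2) hsG⟩
    simpa using C.conj_diagonal_mem (inv_mem (g.s_mem_N i)) hm.1
  have h4 : v⁻¹ * app ψ v ∈ bor G1 := by
    rw [h3]
    have htB := pU_le_bor G1 (fixU_in_le g i ht)
    exact mul_mem (mul_mem (inv_mem htB) (tor_le_bor G1 hz)) htB
  exact (inv_mul_eq_one.1 (bor_inter_neg g i h4 (mul_mem (inv_mem hv) (hY v hv)))).symm

section normal

variable (p : ℕ) [Fact p.Prime] [CharP F p] (hidx : ¬ p ∣ ((bor G1).subgroupOf G1).index)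

include hidx

theorem exists_conj_le' {U : Subgroup (GL D.Idx F)} (hUG : U ≤ G1) (hU : IsPGroup p U) :
    ∃ x ∈ G1, ∀ u ∈ U, x⁻¹ * u * x ∈ pU G1 := by
  set B := (bor G1).subgroupOf G1 with hB
  have hU' : IsPGroup p (U.subgroupOf G1) := hU.comap_of_injective G1.subtype G1.subtype_injective
  obtain ⟨x, hx⟩ := hU'.nonempty_fixed_point_of_prime_not_dvd_card (↥G1 ⧸ B) hidx
  induction x using QuotientGroup.induction_on with | _ k => ?_
  refine ⟨k, k.2, fun u hu => ?_⟩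
  obtain ⟨n, hn⟩ := hU ⟨u, hu⟩
  have hn' : u ^ p ^ n = 1 := congrArg Subtype.val hn
  have h1 := hx ⟨⟨u, hUG hu⟩, hu⟩
  change ((⟨u, hUG hu⟩ * k : ↥G1) : ↥G1 ⧸ B) = _ at h1
  have h2 := QuotientGroup.eq.1 h1.symm
  rw [hB, Subgroup.mem_subgroupOf] at h2
  simp only [Subgroup.coe_mul, InvMemClass.coe_inv, ← mul_assoc] at h2
  refine ⟨KnownSimple.ChevPSylow.mem_posUnipotent_of_pow C p (n := n) h2.1 ?_, h2.2⟩
  have h5 := conj_pow (i := p ^ n) (a := (k : GL D.Idx F)⁻¹) (b := u)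
  rw [inv_inv] at h5
  rw [h5, hn']
  group

/-- Up to an inner automorphism an automorphism preserves `U1` and `V1`. -/
theorem exists_normal' (θ : ↥G1 ≃* ↥G1) :
    ∃ (x : ↥G1) (ψ : ↥G1 ≃* ↥G1), Normal ψ ∧ ∀ y, θ y = x * ψ y * x⁻¹ := by
  set U' := (pU G1).subgroupOf G1
  have hU1 : IsPGroup p ((U'.map θ.toMonoidHom).map G1.subtype) :=
    (((isPGroup_pU (C := C) p).comap_of_injective G1.subtype G1.subtype_injective).map _).map _
  obtain ⟨x₁, hx₁G, hx₁⟩ := exists_conj_le' g p hidx (Subgroup.map_subtype_le _) hU1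
  have hθU : ∀ u ∈ pU G1, x₁⁻¹ * app θ u * x₁ ∈ pU G1 := fun u hu => by
    refine hx₁ _ ⟨θ ⟨u, hu.2⟩, ⟨⟨u, hu.2⟩, ?_, rfl⟩, (app_coe θ ⟨u, hu.2⟩).symm⟩
    exact hu
  obtain ⟨L⟩ := nonempty_longest g
  set k := x₁⁻¹ * app θ L.n * x₁ with hk
  have hkG : k ∈ G1 := mul_mem (mul_mem (inv_mem hx₁G) (app_mem θ _)) hx₁G
  obtain ⟨b, hb, m, hm, u, hu, -, hkeq⟩ := g.twist.nf hkG
  change b ∈ pU G1 at hb
  change u ∈ pU G1 at hu
  obtain ⟨w, hmw, -⟩ := C.exists_moves hm.1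
  set z : ↥G1 := ⟨x₁ * b, mul_mem hx₁G hb.2⟩ with hz
  set ψ := θ.trans (MulAut.conj z⁻¹) with hψ
  have happ : ∀ y ∈ G1, app ψ y = (x₁ * b)⁻¹ * app θ y * (x₁ * b) := fun y hy => by
    lift y to ↥G1 using hy
    rw [app_coe, app_coe]
    simp [hψ, hz]
  have hposψ : ∀ y ∈ pU G1, app ψ y ∈ pU G1 := fun y hy => by
    rw [happ y hy.2]
    have := mul_mem (mul_mem (inv_mem hb) (hθU y hy)) hb
    simpa [mul_assoc] using this
  have hnegψ : ∀ v ∈ nU G1, m⁻¹ * app ψ v * m ∈ pU G1 := fun v hv => by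
    have h1 := L.conj_inv_neg hv
    have h2 : app θ v = app θ L.n * app θ (L.n⁻¹ * v * L.n) * (app θ L.n)⁻¹ := by
      rw [← app_conj θ L.mem (mul_mem (mul_mem (inv_mem L.mem) hv.2) L.mem)]
      group
    have h3 := mul_mem (mul_mem hu (hθU _ h1)) (inv_mem hu)
    have h4 : m⁻¹ * app ψ v * m = u * (x₁⁻¹ * app θ (L.n⁻¹ * v * L.n) * x₁) * u⁻¹ := by
      rw [happ v hv.2, h2]
      have h5 : app θ L.n = x₁ * (b * m * u) * x₁⁻¹ := by rw [← hkeq, hk]; group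
      rw [h5]
      group
    rw [h4]
    exact h3
  have hVsurj : ∀ t ∈ pU G1, ∃ v ∈ nU G1, m⁻¹ * app ψ v * m = t := by
    intro t ht
    have hb' := (Nat.bijective_iff_injective_and_card
      (fun v : ↥(nU G1) => (⟨_, hnegψ v v.2⟩ : ↥(pU G1)))).2
      ⟨fun a c e => Subtype.ext (app_inj ψ a.2.2 c.2.2
        (mul_left_cancel (mul_right_cancel (congrArg Subtype.val e)))), card_nU L⟩
    obtain ⟨v, hv⟩ := hb'.2 ⟨t, ht⟩
    exact ⟨v, v.2, congrArg Subtype.val hv⟩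
  have hwneg : ∀ i, ∀ j ∈ O.J i, D.IsNegRoot (w ⟨D.simple j.val, C.R.simple_lt j⟩) := by
    intro i
    by_contra hcon
    push Not at hcon
    obtain ⟨j, hj, hjn⟩ := hcon
    have hpos : ∀ j' ∈ O.J i, D.IsPosRoot (w ⟨D.simple j'.val, C.R.simple_lt j'⟩) := fun j' hj' =>
      (C.R.pos_or_neg (w _).isLt).resolve_right fun h => hjn (O.all_neg
        (φ.commute_of_fixed hm.1 hmw (g.le_fixed hm.2).2) hj' h j hj)
    obtain ⟨a, ha, hne⟩ := exists_in_ne_one g i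
    obtain ⟨v, hv, hveq⟩ := hVsurj a (fixU_in_le g i ha)
    have h1 : m * a * m⁻¹ ∈ pU G1 := ⟨C.conj_Ucl_le hmw (T := D.posUnipotent F)
      (fun r hr t => C.xGL_mem_posUnipotent (pos_of_supp C.hR hmw.1 hpos hr) t) a
        (Subgroup.mem_inf.1 ha).1,
      mul_mem (mul_mem hm.2 (fixU_in_le g i ha).2) (G1.inv_mem hm.2)⟩
    obtain ⟨y, hy, hye⟩ := exists_preimage ψ inf_le_right hposψ h1
    have h2 : v = y := app_inj ψ hv.2 hy.2 (by rw [hye, ← hveq]; group)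
    have h3 : v = 1 := (Subgroup.eq_bot_iff_forall _).1 C.borel_inf_negUnipotent v
      (Subgroup.mem_inf.2 ⟨le_sup_left (b := D.diagonalSubgroup F) (h2 ▸ hy.1), hv.1⟩)
    rw [h3, app_one, mul_one, inv_mul_cancel] at hveq
    exact hne hveq.symm
  have hwall : ∀ s : Fin D.nroots, D.IsPosRoot s → D.IsNegRoot (w s) := fun s hs =>
    neg_of_supp (J := Finset.univ) C.hR hmw.1
      (fun j _ => by obtain ⟨i, hi⟩ := O.cover j; exact hwneg i j hi)
      ⟨hs, fun m' hm' => absurd (Finset.mem_univ m') hm'⟩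
  refine ⟨z, ψ, ⟨hposψ, fun v hv => ?_⟩, fun y => ?_⟩
  · refine ⟨?_, app_mem ψ v⟩
    have h1 := (hnegψ v hv).1
    rw [C.posUnipotent_eq] at h1
    have := C.conj_Ucl_le hmw (T := D.negUnipotent F)
      (fun s hs t => C.xGL_mem_negUnipotent (hwall s hs) t) _ h1
    simpa [mul_assoc] using this
  · simp [hψ, mul_assoc]

end normal

end CfsgLib.LargeReeAut
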