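import Cfsg.Agent.Lib.LargeReeAut.Elements
import Cfsg.Agent.Lib.LargeReeAut.Generic
import Cfsg.Agent.Lib.ChevField.Fixed

/-!
# Field automorphisms of `²F₄`
-/

set_option autoImplicit false

namespace CfsgLib.LargeReeAut

open Cfsg.Lie CfsgLib.ChevStr CfsgLib.Twisted CfsgLib.TwistAut
open scoped MatrixGroups

variable {K : Type*} [Field K] {m : ℕ}

theorem mapGL_xGL (σ : K ≃+* K) (r : ℕ) (t : K) :
    ChevField.mapGL σ.toRingHom ((coreF4 K).xGL r t) = (coreF4 K).xGL r (σ t) := by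
  refine Units.ext ?_
  rw [ChevField.coe_mapGL, ChevCore.coe_xGL, ChevCore.coe_xGL]
  exact ChevField.x_map σ.toRingHom r t

theorem mapGL_word (σ : K ≃+* K) (w : List (ℕ × K)) :
    ChevField.mapGL σ.toRingHom ((coreF4 K).wordGL w) =
      (coreF4 K).wordGL (w.map fun p => (p.1, σ p.2)) := by
  induction w with
  | nil => simp [ChevCore.wordGL_nil]
  | cons p w ih =>
    rw [ChevCore.wordGL_cons, map_mul, ih, List.map_cons, ChevCore.wordGL_cons, mapGL_xGL]

theorem mapGL_mem (σ : K ≃+* K) {g : GL chevF4.Idx K} (hg : g ∈ twistedF4 K (2 ^ m)) :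
    ChevField.mapGL σ.toRingHom g ∈ twistedF4 K (2 ^ m) := by
  have hle : twistedF4 K (2 ^ m) ≤ (twistedF4 K (2 ^ m)).comap (ChevField.mapGL σ.toRingHom) := by
    refine (Subgroup.closure_le _).2 ?_
    rintro g ⟨w, hw, he⟩
    refine Subgroup.subset_closure ⟨w.map fun p => (p.1, σ p.2), ?_, ?_⟩
    · rcases hw with ⟨t, h⟩ | ⟨t, u, h⟩
      · exact Or.inl ⟨σ t, by rcases h with rfl | rfl <;> simp [f4PairWord]⟩
      · exact Or.inr ⟨σ t, σ u, by rcases h with rfl | rfl <;> simp [b2ClassWord]⟩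
    · have e : g = (coreF4 K).wordGL w := Units.ext (by rw [he, ChevCore.coe_wordGL])
      rw [e, mapGL_word, ChevCore.coe_wordGL]
  exact hle hg

/-- The field automorphism of the group. -/
noncomputable def fieldHom (m : ℕ) (σ : K ≃+* K) :
    ↥(twistedF4 K (2 ^ m)) →* ↥(twistedF4 K (2 ^ m)) :=
  ((ChevField.mapGL σ.toRingHom).comp (twistedF4 K (2 ^ m)).subtype).codRestrict _
    (fun g => mapGL_mem σ g.2)

/-- Field automorphisms as automorphisms. -/
noncomputable def fieldAut (m : ℕ) : (K ≃+* K) →* MulAut ↥(twistedF4 K (2 ^ m)) where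
  toFun σ := MonoidHom.toMulEquiv (fieldHom m σ) (fieldHom m σ.symm)
    (MonoidHom.ext fun g => Subtype.ext (Units.ext (Matrix.ext fun a b => σ.symm_apply_apply _)))
    (MonoidHom.ext fun g => Subtype.ext (Units.ext (Matrix.ext fun a b => σ.apply_symm_apply _)))
  map_one' := MulEquiv.ext fun g => Subtype.ext (Units.ext (Matrix.ext fun a b => rfl))
  map_mul' σ τ := MulEquiv.ext fun g => Subtype.ext (Units.ext (Matrix.ext fun a b => rfl))

theorem app_fieldAut (σ : K ≃+* K) {g : GL chevF4.Idx K} (hg : g ∈ twistedF4 K (2 ^ m)) :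
    app (fieldAut m σ) g = ChevField.mapGL σ.toRingHom g := by
  lift g to ↥(twistedF4 K (2 ^ m)) using hg
  rw [app_coe]
  rfl

theorem fieldAut_Pt (σ : K ≃+* K) (t : K) :
    app (fieldAut m σ) (Pt K m t) = Pt K m (σ t) := by
  rw [app_fieldAut σ (Pt_mem t), Pt_eq, Pt_eq, map_mul, mapGL_xGL, mapGL_xGL, map_pow]

theorem fieldAut_Bt (σ : K ≃+* K) (t u : K) :
    app (fieldAut m σ) (Bt K m t u) = Bt K m (σ t) (σ u) := by
  rw [app_fieldAut σ (Bt_mem t u), Bt_eq, Bt_eq, map_mul, map_mul, map_mul, mapGL_xGL, mapGL_xGL,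
    mapGL_xGL, mapGL_xGL, map_pow, map_pow, map_add, map_pow]

theorem fieldAut_normal (σ : K ≃+* K) : Normal (fieldAut m σ) := by
  constructor <;> intro y hy <;> rw [app_fieldAut σ hy.2]
  · refine ⟨?_, mapGL_mem σ hy.2⟩
    refine ((coreF4 K).posUnipotent_le fun r t hr => ?_ :
      chevF4.posUnipotent K ≤ (chevF4.posUnipotent K).comap (ChevField.mapGL σ.toRingHom)) hy.1
    rw [Subgroup.mem_comap, mapGL_xGL]
    exact (coreF4 K).xGL_mem_posUnipotent hr _
  · refine ⟨?_, mapGL_mem σ hy.2⟩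
    refine ((coreF4 K).negUnipotent_le fun r t hr => ?_ :
      chevF4.negUnipotent K ≤ (chevF4.negUnipotent K).comap (ChevField.mapGL σ.toRingHom)) hy.1
    rw [Subgroup.mem_comap, mapGL_xGL]
    exact (coreF4 K).xGL_mem_negUnipotent hr _

end CfsgLib.LargeReeAut
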