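import Cfsg.Agent.Lib.LargeReeAut.Field
import Cfsg.Agent.Lib.AutPSL.FieldGalois
import Cfsg.Prelude.Def_KGroupFacts

/-!
# The outer automorphism group of `²F₄(q)`

An automorphism is inner times one preserving `U1` and `V1`; after a torus element and a field
automorphism it fixes the root elements of both orbits, hence everything.
-/

set_option autoImplicit false

namespace CfsgLib.LargeReeAut

open Cfsg.Lie CfsgLib.ChevStr CfsgLib.Twisted CfsgLib.TwistAut
open scoped MatrixGroups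

theorem f4_long_neg : ∀ j : Fin chevF4.rank, chevF4.IsNegRoot (reflDataF4.wordPerm
    ((List.replicate 6 [nodeF4 0, nodeF4 1, nodeF4 2, nodeF4 3]).flatten)
    ⟨chevF4.simple j.val, rootDataF4.simple_lt j⟩) := by decide +kernel

theorem f4_long_opp : ∀ i, ∀ r : Fin chevF4.nroots, chevF4.IsNegRoot r →
    SuppIn rootDataF4 (nodesF4 i) r →
    chevF4.IsPosRoot (reflDataF4.wordPerm
      ((List.replicate 6 [nodeF4 0, nodeF4 1, nodeF4 2, nodeF4 3]).flatten) r) ∧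
      SuppIn rootDataF4 (nodesF4 i) (reflDataF4.wordPerm
      ((List.replicate 6 [nodeF4 0, nodeF4 1, nodeF4 2, nodeF4 3]).flatten) r) := by decide +kernel

variable {K : Type*} [Field K] [Fintype K] [CharP K 2] {m : ℕ}
  (hn : Fintype.card K = 2 * (2 ^ m * 2 ^ m))

include hn

theorem card_eq : Fintype.card K = 2 ^ (2 * m + 1) := by
  rw [hn, pow_succ, two_mul m, pow_add, mul_comm]

theorem opp : Opp (coreF4 K) (φ := frobF4 K m) orbF4 (twistedF4 K (2 ^ m)) :=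
  opp_of_word (φ := frobF4 K m) _ f4_long_neg f4_long_opp

theorem not_two_dvd_index :
    ¬ 2 ∣ ((bor (twistedF4 K (2 ^ m))).subgroupOf (twistedF4 K (2 ^ m))).index := by
  have g := gensF4 K hn
  have hN : Set.ncard {r | chevF4.IsPosRoot r} = 24 := ncard_isPosRoot (by decide +kernel)
  have hU : Nat.card ↥(pU (twistedF4 K (2 ^ m))) = Fintype.card K ^ 12 := by
    refine Nat.pow_left_injective (show 2 ≠ 0 by norm_num) ?_
    show _ ^ 2 = _ ^ 2
    rw [g.card_U1, hN, Nat.card_eq_fintype_card]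
    ring
  have hB : Nat.card ↥(bor (twistedF4 K (2 ^ m))) =
      Fintype.card K ^ 12 * (Fintype.card K - 1) ^ 2 := by
    rw [card_bor g, hU, card_H1F4 K hn]
  have h := Subgroup.card_mul_index ((bor (twistedF4 K (2 ^ m))).subgroupOf (twistedF4 K (2 ^ m)))
  rw [Nat.card_congr (Subgroup.subgroupOfEquivOfLe
    (inf_le_right : bor (twistedF4 K (2 ^ m)) ≤ twistedF4 K (2 ^ m))).toEquiv, hB,
    card_twistedF4 K hn] at h
  intro hd
  have h2 : Even (Fintype.card K) := by rw [hn]; exact even_two_mul _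
  have hpos : 0 < Fintype.card K := Fintype.card_pos
  generalize Fintype.card K = Q at h h2 hpos
  simp only [mul_assoc] at h
  have hQ : Q ^ 12 ≠ 0 := pow_ne_zero _ (by omega)
  have h' := Nat.eq_of_mul_eq_mul_left (Nat.pos_of_ne_zero hQ) h
  have heven : Even ((Q - 1) ^ 2 * ((bor (twistedF4 K (2 ^ m))).subgroupOf
      (twistedF4 K (2 ^ m))).index) := Even.mul_left (even_iff_two_dvd.2 hd) _
  rw [h'] at heven
  obtain ⟨k, hk⟩ := h2
  have h4 : 1 ≤ Q ^ 4 := Nat.one_le_pow _ _ hpos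
  simp [Nat.even_mul, Nat.even_sub h4, Nat.even_sub (show 1 ≤ Q by omega), Nat.even_pow,
    Nat.even_add, show Even Q from ⟨k, hk⟩] at heven

theorem perm_id {ψ : ↥(twistedF4 K (2 ^ m)) ≃* ↥(twistedF4 K (2 ^ m))}
    (P : TwistAut.Perm (gensF4 K hn) ψ) : ∀ i, P.π i = i := by
  have h0 : Nat.card ↥((frobF4 K m).fixU (inRoots (coreF4 K).R (orbF4.J 0))) = Fintype.card K := by
    show Nat.card ↥((frobF4 K m).fixU (inRoots (coreF4 K).R (nodesF4 0))) = _
    rw [inF4]; exact (pairF4 K hn).2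
  have h1 : Nat.card ↥((frobF4 K m).fixU (inRoots (coreF4 K).R (orbF4.J 1))) =
      Fintype.card K * Fintype.card K := by
    show Nat.card ↥((frobF4 K m).fixU (inRoots (coreF4 K).R (nodesF4 1))) = _
    rw [inF4]; exact (classF4 K hn).2
  have hlt : Fintype.card K < Fintype.card K * Fintype.card K :=
    Nat.lt_mul_self_iff.2 Fintype.one_lt_card
  intro i
  have h := TwistAut.Perm.card_eq _ P i
  rcases Fin.exists_fin_two.1 ⟨P.π i, rfl⟩ with e | e <;>
    rcases Fin.exists_fin_two.1 ⟨i, rfl⟩ with e' | e' <;>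
    rw [e, e'] <;> rw [e, e', h0, h1] at h <;> omega

theorem maps_orbit {ψ : ↥(twistedF4 K (2 ^ m)) ≃* ↥(twistedF4 K (2 ^ m))} (hψ : Normal ψ)
    (i : Fin 2) :
    (∀ x ∈ (frobF4 K m).fixU (inRoots (coreF4 K).R (orbF4.J i)),
      app ψ x ∈ (frobF4 K m).fixU (inRoots (coreF4 K).R (orbF4.J i))) ∧
    ∀ x ∈ (frobF4 K m).fixU (negRootsIn (coreF4 K).R (orbF4.J i)),
      app ψ x ∈ (frobF4 K m).fixU (negRootsIn (coreF4 K).R (orbF4.J i)) := by
  have : Fact (Nat.Prime 2) := ⟨Nat.prime_two⟩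
  obtain ⟨P⟩ := nonempty_perm (gensF4 K hn) 2 (opp hn) hψ
  refine ⟨fun x hx => ?_, fun x hx => ?_⟩
  · have := P.pos i x hx
    rwa [perm_id hn P i] at this
  · have := P.neg i x hx
    rwa [perm_id hn P i] at this

theorem tau_char (a b : Kˣ) : ∃ c, (coreF4 K).R.torus c ∈ twistedF4 K (2 ^ m) ∧
    (coreF4 K).R.torusChar c ((coreF4 K).R.α f4p4) = a ∧
    (coreF4 K).R.torusChar c ((coreF4 K).R.α f4b) = b := by
  obtain ⟨⟨c, v⟩, h⟩ := (chars_bijective hn).2 (a, b)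
  exact ⟨tauVec K m c v, tau_mem hn c v, congrArg Prod.fst h, congrArg Prod.snd h⟩

theorem conj_torus_normal {ψ : ↥(twistedF4 K (2 ^ m)) ≃* ↥(twistedF4 K (2 ^ m))} (hψ : Normal ψ)
    {c : Fin chevF4.rank → Kˣ} (hc : (coreF4 K).R.torus c ∈ twistedF4 K (2 ^ m)) :
    Normal (MulAut.conj (⟨_, hc⟩ : ↥(twistedF4 K (2 ^ m))) * ψ) ∧
      ∀ y ∈ twistedF4 K (2 ^ m), app (MulAut.conj (⟨_, hc⟩ : ↥(twistedF4 K (2 ^ m))) * ψ) y =
        (coreF4 K).R.torus c * app ψ y * ((coreF4 K).R.torus c)⁻¹ := by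
  have hd : (coreF4 K).R.torus c ∈ chevF4.diagonalSubgroup K := by
    rw [(coreF4 K).diagonalSubgroup_eq]; exact ⟨c, rfl⟩
  have happ : ∀ y ∈ twistedF4 K (2 ^ m),
      app (MulAut.conj (⟨_, hc⟩ : ↥(twistedF4 K (2 ^ m))) * ψ) y =
        (coreF4 K).R.torus c * app ψ y * ((coreF4 K).R.torus c)⁻¹ := fun y hy => by
    lift y to ↥(twistedF4 K (2 ^ m)) using hy
    rw [app_coe, app_coe]
    rfl
  refine ⟨?_, happ⟩
  constructor <;> intro y hy <;> rw [happ y hy.2]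
  · exact ⟨(Subgroup.mem_normalizer_iff.1 ((coreF4 K).diagonal_normalizes_pos hd) _).1
      (hψ.pos y hy).1, mul_mem (mul_mem hc (app_mem ψ y)) ((twistedF4 K (2 ^ m)).inv_mem hc)⟩
  · exact ⟨(Subgroup.mem_normalizer_iff.1 ((coreF4 K).diagonal_normalizes_neg hd) _).1
      (hψ.neg y hy).1, mul_mem (mul_mem hc (app_mem ψ y)) ((twistedF4 K (2 ^ m)).inv_mem hc)⟩

/-- A normal automorphism becomes, after a torus element, one fixing both unit root elements. -/
theorem exists_unit_normalised {ψ : ↥(twistedF4 K (2 ^ m)) ≃* ↥(twistedF4 K (2 ^ m))}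
    (hψ : Normal ψ) :
    ∃ z : ↥(twistedF4 K (2 ^ m)), Normal (MulAut.conj z * ψ) ∧
      app (MulAut.conj z * ψ) (Pt K m 1) = Pt K m 1 ∧
      ∃ d, app (MulAut.conj z * ψ) (Bt K m 1 0) = Bt K m 1 d := by
  obtain ⟨a, ha⟩ := exists_Pt hn ((maps_orbit hn hψ 0).1 _ (Pt_fix hn 1))
  obtain ⟨b, d, hb⟩ := exists_Bt hn ((maps_orbit hn hψ 1).1 _ (Bt_fix hn 1 0))
  have ha0 : a ≠ 0 := by
    rintro rfl
    rw [Pt_zero, ← app_one ψ] at ha
    exact one_ne_zero (Pt_inj hn ((app_inj ψ (Pt_mem _) (Subgroup.one_mem _) ha).trans Pt_zero.symm))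
  have hb0 : b ≠ 0 := by
    rintro rfl
    have h1 : app ψ (Bt K m 1 0 * Bt K m 1 0) = 1 := by
      rw [app_mul ψ (Bt_mem _ _) (Bt_mem _ _), hb, Bt_mul hn, mul_zero, add_zero, add_zero,
        CharTwo.add_self_eq_zero, Bt_zero]
    rw [Bt_sq hn, one_pow, ← app_one ψ] at h1
    exact one_ne_zero
      (Bt_inj hn ((app_inj ψ (Bt_mem _ _) (Subgroup.one_mem _) h1).trans Bt_zero.symm)).2
  obtain ⟨c, hc, e0, e1⟩ := tau_char hn (Units.mk0 a ha0)⁻¹ (Units.mk0 b hb0)⁻¹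
  obtain ⟨hN, happ⟩ := conj_torus_normal hn hψ hc
  refine ⟨_, hN, ?_, ((((Units.mk0 b hb0)⁻¹ : Kˣ) : K) ^ (2 ^ m + 1) * d), ?_⟩
  · rw [happ _ (Pt_mem _), ha, torus_conj_Pt hn hc, e0]
    simp [ha0]
  · rw [happ _ (Bt_mem _ _), hb, torus_conj_Bt hn hc, e1]
    simp [hb0]

/-- The action of a normal automorphism on the first orbit is by a field automorphism. -/
theorem exists_field {ψ : ↥(twistedF4 K (2 ^ m)) ≃* ↥(twistedF4 K (2 ^ m))} (hψ : Normal ψ)
    (h1 : app ψ (Pt K m 1) = Pt K m 1) :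
    ∃ σ : K ≃+* K, ∀ t, app ψ (Pt K m t) = Pt K m (σ t) := by
  choose f hf using fun t => exists_Pt hn ((maps_orbit hn hψ 0).1 _ (Pt_fix hn t))
  have f1 : f 1 = 1 := Pt_inj hn ((hf 1).symm.trans h1)
  have fadd : ∀ t s, f (t + s) = f t + f s := fun t s => Pt_inj hn (by
    rw [← hf, Pt_add, app_mul ψ (Pt_mem _) (Pt_mem _), hf, hf, Pt_add])
  have finj : Function.Injective f := fun t s e =>
    Pt_inj hn (app_inj ψ (Pt_mem _) (Pt_mem _) (by rw [hf, hf, e]))
  have f0 : f 0 = 0 := by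
    have := fadd 0 0
    rwa [add_zero, left_eq_add] at this
  have fmul : ∀ a t, f (a * t) = f a * f t := by
    intro a t
    by_cases ha : a = 0
    · simp [ha, f0]
    obtain ⟨c, hc, e0, -⟩ := tau_char hn (Units.mk0 a ha) 1
    have hd : (coreF4 K).R.torus c ∈ tor (twistedF4 K (2 ^ m)) :=
      ⟨by rw [(coreF4 K).diagonalSubgroup_eq]; exact ⟨c, rfl⟩, hc⟩
    obtain ⟨c', v', hc'⟩ := exists_tau hn (Normal.mem_tor (gensF4 K hn) hψ hd)
    set χ' : Kˣ := (coreF4 K).R.torusChar (tauVec K m c' v') ((coreF4 K).R.α f4p4)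
    have key : ∀ t, f (a * t) = (χ' : K) * f t := fun t => Pt_inj hn (by
      rw [← hf, show a * t = ((Units.mk0 a ha : Kˣ) : K) * t from rfl, ← e0, ← torus_conj_Pt hn hc,
        app_conj ψ hc (Pt_mem _), hc', hf, torus_conj_Pt hn (tau_mem hn c' v')])
    have := key 1
    rw [mul_one, f1, mul_one] at this
    rw [key, this]
  refine ⟨RingEquiv.ofBijective
    ({ toFun := f, map_one' := f1, map_mul' := fmul, map_zero' := f0, map_add' := fadd } : K →+* K)
    (Finite.injective_iff_bijective.1 finj), hf⟩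

/-- Rigidity. -/
theorem eq_one_of_fixed (hm : 1 ≤ m)
    {ψ : ↥(twistedF4 K (2 ^ m)) ≃* ↥(twistedF4 K (2 ^ m))} (hψ : Normal ψ)
    (hP : ∀ t, app ψ (Pt K m t) = Pt K m t) {d₁ : K}
    (hB : app ψ (Bt K m 1 0) = Bt K m 1 d₁) : ψ = 1 := by
  classical
  have g := gensF4 K hn
  -- the subgroup of fixed elements
  let Fx : Subgroup (GL chevF4.Idx K) :=
    (MonoidHom.eqLocus ψ.toMonoidHom (MonoidHom.id _)).map (twistedF4 K (2 ^ m)).subtype
  have hFx : ∀ {x}, x ∈ twistedF4 K (2 ^ m) → app ψ x = x → x ∈ Fx := fun {x} hx e =>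
    ⟨⟨x, hx⟩, Subtype.ext ((app_coe ψ ⟨x, hx⟩).symm.trans e), rfl⟩
  have hFx' : ∀ {x}, x ∈ Fx → app ψ x = x := fun {x} hx => by
    obtain ⟨y, hy, rfl⟩ := hx
    exact (app_coe ψ y).trans (congrArg Subtype.val hy)
  -- the negative first orbit group
  have hX0 : ∀ x ∈ (frobF4 K m).fixU (inRoots (coreF4 K).R (orbF4.J 0)), app ψ x = x := fun x hx => by
    obtain ⟨t, rfl⟩ := exists_Pt hn hx
    exact hP t
  have hY0 := fix_neg g hψ 0 hX0 (maps_orbit hn hψ 0).2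
  have hneg : ∀ i, ∀ r ∈ [[f4m1, f4m4], [f4ma, f4mb, f4mab, f4maab]].getD (i : Fin 2).val [],
      chevF4.IsNegRoot r ∧ SuppIn rootDataF4 (nodesF4 i) r := f4_neg_facts
  have hPn : ∀ t, (coreF4 K).wordGL (f4PairWord (2 ^ m) f4m1 f4m4 t) ∈ Fx := fun t => by
    have hmem : (coreF4 K).wordGL (f4PairWord (2 ^ m) f4m1 f4m4 t) ∈ twistedF4 K (2 ^ m) :=
      (coreF4 K).wordGL_mem_gen (Or.inl ⟨t, Or.inr rfl⟩)
    refine hFx hmem (hY0 _ (Subgroup.mem_inf.2 ⟨(coreF4 K).wordGL_mem_Ucl fun q hq => hneg 0 q.1 ?_,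
      g.le_fixed hmem⟩))
    simp only [f4PairWord, List.mem_cons, List.not_mem_nil, or_false] at hq
    rcases hq with rfl | rfl <;> simp
  -- the torus of the first orbit
  have hT : ∀ z : Kˣ, app ψ ((coreF4 K).R.torus (tauVec K m z 1)) =
      (coreF4 K).R.torus (tauVec K m z 1) := fun z => by
    refine hFx' ?_
    have h := torusPair_mem (coreF4 K) (G1 := Fx) (nodeF4 3) (nodeF4 0) f4_commPair
      (E := 2 ^ m) (by rw [CharTwo.neg_eq, one_pow]) (fun t => ?_) z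
    · rw [tauVec, one_pow, Pi.mulSingle_one, Pi.mulSingle_one, one_mul, mul_one, map_mul]
      exact h
    · obtain ⟨s0, s3, m0, m3⟩ := f4_simples
      have hc := (f4_commPair).commute (coreF4 K)
      simp only [nodeF4, s0, s3, m0, m3] at hc ⊢
      constructor
      · have h := hFx (Pt_mem (m := m) t) (hP t)
        rwa [Pt_eq, (hc f4p4 (by simp) f4p1 (by simp) t (t ^ 2 ^ m)).eq] at h
      · have h := hPn t
        simp only [f4PairWord, ChevCore.wordGL_cons, ChevCore.wordGL_nil, mul_one] at h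
        rwa [(hc f4m4 (by simp) f4m1 (by simp) t (t ^ 2 ^ m)).eq] at h
  have hchar : ∀ a : Kˣ, ∃ z : Kˣ,
      (coreF4 K).R.torusChar (tauVec K m z 1) ((coreF4 K).R.α f4b) = a := fun a => by
    refine ⟨a⁻¹, ?_⟩
    rw [(char_tau _ _).2]
    simp
  -- the second orbit group
  choose f D hf using fun t => exists_Bt hn ((maps_orbit hn hψ 1).1 _ (Bt_fix hn t 0))
  have h1 := Bt_inj hn ((hf 1).symm.trans hB)
  have hequiv : ∀ (a : Kˣ) t, f ((a : K) * t) = (a : K) * f t ∧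
      D ((a : K) * t) = (a : K) ^ (2 ^ m + 1) * D t := fun a t => by
    obtain ⟨z, hz⟩ := hchar a
    have hzm := tau_mem hn z 1
    refine Bt_inj hn ?_
    rw [← hz, ← torus_conj_Bt hn hzm, ← hf t, ← hT z, ← app_conj ψ hzm (Bt_mem _ _),
      torus_conj_Bt hn hzm, mul_zero, hf]
  have hft : ∀ t, f t = t ∧ D t = t ^ (2 ^ m + 1) * d₁ := by
    intro t
    by_cases ht : t = 0
    · subst ht
      have h := hf 0
      rw [Bt_zero, app_one, ← Bt_zero (K := K) (m := m)] at h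
      obtain ⟨e1, e2⟩ := Bt_inj hn h
      exact ⟨e1.symm, by rw [← e2, zero_pow (Nat.succ_ne_zero _), zero_mul]⟩
    · obtain ⟨e1, e2⟩ := hequiv (Units.mk0 t ht) 1
      rw [Units.val_mk0, mul_one] at e1 e2
      exact ⟨by rw [e1, h1.1, mul_one], by rw [e2, h1.2]⟩
  have hZ : ∀ u, app ψ (Bt K m 0 u) = Bt K m 0 u := fun u => by
    by_cases hu : u = 0
    · rw [hu, Bt_zero, app_one]
    obtain ⟨t, ht⟩ : ∃ t : K, t ^ (2 ^ m + 1) = u := by
      refine (Finite.surjective_of_injective (f := fun t : K => t ^ (2 ^ m + 1)) ?_) u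
      intro x y e
      simp only at e
      by_cases hy : y = 0
      · subst hy
        rw [zero_pow (Nat.succ_ne_zero _)] at e
        exact pow_eq_zero_iff (Nat.succ_ne_zero _) |>.1 e
      have h : (x / y) ^ (2 ^ m + 1) = 1 := by rw [div_pow, e, div_self (pow_ne_zero _ hy)]
      set w := x / y with hw
      have hw0 : w ≠ 0 := fun h0 => by rw [h0, zero_pow (Nat.succ_ne_zero _)] at h; exact zero_ne_one h
      have e1 : w ^ 2 ^ m = w⁻¹ := by
        rw [pow_succ] at h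
        exact eq_inv_of_mul_eq_one_left h
      have e2 : w = w ^ 2 := by
        calc w = w ^ (2 * (2 ^ m * 2 ^ m)) := (pow_two_sq hn w).symm
          _ = ((w ^ 2 ^ m) ^ 2 ^ m) ^ 2 := by rw [← pow_mul, ← pow_mul]; ring_nf
          _ = w ^ 2 := by rw [e1, inv_pow, e1, inv_inv]
      rw [sq, left_eq_mul₀ hw0] at e2
      exact eq_of_div_eq_one e2
    rw [← ht, ← Bt_sq hn, app_mul ψ (Bt_mem _ _) (Bt_mem _ _), hf, (hft t).1, Bt_mul hn, Bt_mul hn]
    congr 1
    rw [CharTwo.add_self_eq_zero, add_zero]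
  have hd : d₁ = 0 := by
    obtain ⟨s, hs0, hs1⟩ : ∃ s : K, s ≠ 0 ∧ s ≠ 1 := by
      have hcard : ({0, 1} : Finset K).card < (Finset.univ : Finset K).card := by
        have h4 : 2 ^ 1 ≤ 2 ^ m := Nat.pow_le_pow_right (by norm_num) hm
        have h16 : 2 * 2 ≤ 2 ^ m * 2 ^ m := Nat.mul_le_mul (by simpa using h4) (by simpa using h4)
        have := Finset.card_le_two (a := (0 : K)) (b := 1)
        rw [Finset.card_univ, hn]
        omega
      obtain ⟨s, -, hs⟩ := Finset.exists_mem_notMem_of_card_lt_card hcard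
      simp only [Finset.mem_insert, Finset.mem_singleton, not_or] at hs
      exact ⟨s, hs⟩
    have h := congrArg (app ψ) (Bt_split hn (1 + s) (1 ^ 2 ^ m * s))
    have h' : Bt K m 1 0 * Bt K m s 0 = Bt K m (1 + s) (1 ^ 2 ^ m * s) := by
      rw [Bt_mul hn, add_zero, zero_add]
    rw [app_mul ψ (Bt_mem _ _) (Bt_mem _ _), hf, (hft (1 + s)).1, (hft (1 + s)).2, hZ, ← h',
      app_mul ψ (Bt_mem _ _) (Bt_mem _ _), hf, hf, (hft 1).1, (hft 1).2, (hft s).1, (hft s).2,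
      Bt_mul hn, Bt_mul hn] at h
    have e := (Bt_inj hn h).2
    rw [one_pow, one_pow, one_mul, mul_zero, add_zero, pow_succ (1 + s), pow_succ s,
      add_pow_char_pow, one_pow] at e
    have e2 : (s + s ^ 2 ^ m) * d₁ = 0 := by
      linear_combination -e + 0 * (CharTwo.two_eq_zero : (2 : K) = 0)
    refine (mul_eq_zero.1 e2).resolve_left fun e3 => ?_
    rw [CharTwo.add_eq_zero] at e3
    have e4 : s ^ 2 = s := by
      calc s ^ 2 = ((s ^ 2 ^ m) ^ 2 ^ m) ^ 2 := by rw [← e3, ← e3]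
        _ = s := by rw [← pow_mul, ← pow_mul, show 2 ^ m * (2 ^ m * 2) = 2 * (2 ^ m * 2 ^ m) by ring]; exact pow_two_sq hn s
    rw [sq, mul_eq_left₀ hs0] at e4
    exact hs1 e4
  have hX1 : ∀ x ∈ (frobF4 K m).fixU (inRoots (coreF4 K).R (orbF4.J 1)), app ψ x = x := fun x hx => by
    obtain ⟨t, u, rfl⟩ := exists_Bt hn hx
    rw [Bt_split hn, app_mul ψ (Bt_mem _ _) (Bt_mem _ _), hf, (hft t).1, (hft t).2, hd, mul_zero, hZ]
  have hY1 := fix_neg g hψ 1 hX1 (maps_orbit hn hψ 1).2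
  have key : twistedF4 K (2 ^ m) ≤ Fx := by
    refine (Subgroup.closure_le _).2 ?_
    rintro x ⟨w, hw, hx⟩
    obtain rfl : x = (coreF4 K).wordGL w := Units.ext (hx.trans ((coreF4 K).coe_wordGL w).symm)
    have hmem : (coreF4 K).wordGL w ∈ twistedF4 K (2 ^ m) := (coreF4 K).wordGL_mem_gen hw
    rcases hw with ⟨t, rfl | rfl⟩ | ⟨t, u, rfl | rfl⟩
    · exact hFx hmem (hP t)
    · exact hPn t
    · exact hFx hmem (hX1 _ (Bt_fix hn t u))
    · refine hFx hmem (hY1 _ (Subgroup.mem_inf.2 ⟨(coreF4 K).wordGL_mem_Ucl fun q hq => hneg 1 q.1 ?_,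
        g.le_fixed hmem⟩))
      simp only [b2ClassWord, List.mem_cons, List.not_mem_nil, or_false] at hq
      rcases hq with rfl | rfl | rfl | rfl <;> simp
  refine MulEquiv.ext fun y => Subtype.ext ?_
  show ((ψ y : ↥(twistedF4 K (2 ^ m))) : GL chevF4.Idx K) = y
  rw [← app_coe ψ y]
  exact hFx' (key y.2)

theorem exists_fieldAut (hm : 1 ≤ m) (α : MulAut ↥(twistedF4 K (2 ^ m))) :
    ∃ σ : K ≃+* K, (fieldAut m σ)⁻¹ * α ∈ Cfsg.Inn ↥(twistedF4 K (2 ^ m)) := by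
  have : Fact (Nat.Prime 2) := ⟨Nat.prime_two⟩
  obtain ⟨x, ψ, hψ, hα⟩ := exists_normal' (gensF4 K hn) 2 (not_two_dvd_index hn) α
  obtain ⟨z, hN, hP1, d, hB⟩ := exists_unit_normalised hn hψ
  obtain ⟨σ, hσ⟩ := exists_field hn hN hP1
  set β := MulAut.conj z * ψ with hβ
  have hN' : Normal ((fieldAut m σ⁻¹) * β) := by
    constructor <;> intro y hy
    · rw [show app ((fieldAut m σ⁻¹) * β) y = app (fieldAut m σ⁻¹) (app β y) from
        app_trans β (fieldAut m σ⁻¹) hy.2]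
      exact (fieldAut_normal σ⁻¹).pos _ (hN.pos y hy)
    · rw [show app ((fieldAut m σ⁻¹) * β) y = app (fieldAut m σ⁻¹) (app β y) from
        app_trans β (fieldAut m σ⁻¹) hy.2]
      exact (fieldAut_normal σ⁻¹).neg _ (hN.neg y hy)
  have h1 : (fieldAut m σ⁻¹) * β = 1 := by
    refine eq_one_of_fixed hn hm hN' (fun t => ?_) (d₁ := σ⁻¹ d) ?_
    · rw [show app ((fieldAut m σ⁻¹) * β) (Pt K m t) = app (fieldAut m σ⁻¹) (app β (Pt K m t)) from
        app_trans β (fieldAut m σ⁻¹) (Pt_mem t), hσ, fieldAut_Pt]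
      exact congrArg _ (σ.symm_apply_apply t)
    · rw [show app ((fieldAut m σ⁻¹) * β) (Bt K m 1 0) = app (fieldAut m σ⁻¹) (app β (Bt K m 1 0)) from
        app_trans β (fieldAut m σ⁻¹) (Bt_mem _ _), hB, fieldAut_Bt, map_one]
  refine ⟨σ, ?_⟩
  rw [map_inv, inv_mul_eq_one] at h1
  have hα' : α = MulAut.conj (x * z⁻¹) * fieldAut m σ := by
    rw [h1, hβ, map_mul, map_inv, mul_assoc, inv_mul_cancel_left]
    exact MulEquiv.ext hα
  rw [hα']
  have hmem : MulAut.conj (x * z⁻¹) ∈ Cfsg.Inn ↥(twistedF4 K (2 ^ m)) := ⟨_, rfl⟩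
  have h := (Cfsg.innNormal _).conj_mem _ hmem (fieldAut m σ)⁻¹
  rwa [inv_inv, mul_assoc] at h

theorem eq_one_of_fieldAut_inner {σ : K ≃+* K} {x : ↥(twistedF4 K (2 ^ m))}
    (h : fieldAut m σ = MulAut.conj x) : σ = 1 := by
  have g := gensF4 K hn
  have happ : ∀ y ∈ twistedF4 K (2 ^ m), app (fieldAut m σ) y =
      (x : GL chevF4.Idx K) * y * (x : GL chevF4.Idx K)⁻¹ := fun y hy => by
    lift y to ↥(twistedF4 K (2 ^ m)) using hy
    rw [app_coe, h]
    rfl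
  have hN := fieldAut_normal (m := m) σ
  have hxB : (x : GL chevF4.Idx K) ∈ bor (twistedF4 K (2 ^ m)) :=
    mem_bor_of_normalizes g x.2 fun u hu => by
      rw [← happ u hu.2]; exact hN.pos u hu
  have hxT := mem_tor_of_normalizes g hxB fun v hv => by
    rw [← happ v hv.2]; exact hN.neg v hv
  obtain ⟨c, v, hcv⟩ := exists_tau hn hxT
  set χ : Kˣ := (coreF4 K).R.torusChar (tauVec K m c v) ((coreF4 K).R.α f4p4) with hχ
  have key : ∀ t, σ t = (χ : K) * t := fun t => Pt_inj hn (m := m) (by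
    rw [← fieldAut_Pt, happ _ (Pt_mem t), hcv, torus_conj_Pt hn (tau_mem hn c v)])
  refine RingEquiv.ext fun t => ?_
  have h1 := key 1
  rw [map_one, mul_one] at h1
  show σ t = t
  rw [key t, ← h1, one_mul]

theorem card_out (hm : 1 ≤ m) :
    Nat.card (Cfsg.Out ↥(twistedF4 K (2 ^ m))) = 2 * m + 1 := by
  have : Fact (Nat.Prime 2) := ⟨Nat.prime_two⟩
  rw [← CfsgLib.FieldGalois.card_ringAut (F := K) (card_eq hn)]
  symm
  refine Nat.card_eq_of_bijective
    (fun σ => (QuotientGroup.mk (fieldAut m σ) : Cfsg.Out ↥(twistedF4 K (2 ^ m)))) ⟨?_, ?_⟩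
  · intro σ τ h
    obtain ⟨x, hx⟩ := (QuotientGroup.eq.1 h : (fieldAut m σ)⁻¹ * fieldAut m τ ∈ _)
    rw [← map_inv, ← map_mul] at hx
    exact inv_mul_eq_one.1 (eq_one_of_fieldAut_inner hn hx.symm)
  · intro q
    induction q using QuotientGroup.induction_on with
    | H α =>
      obtain ⟨σ, hσ⟩ := exists_fieldAut hn hm α
      exact ⟨σ, QuotientGroup.eq.2 hσ⟩

end CfsgLib.LargeReeAut
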